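import Mathlib.CategoryTheory.Abelian.SerreClass.Localization
import Mathlib.CategoryTheory.Abelian.Exact
import Mathlib.CategoryTheory.Limits.Preserves.Shapes.Kernels
import Mathlib.Algebra.Homology.ShortComplex.Exact

/-!
# Quotients of abelian subcategories by Serre classes
-/

set_option autoImplicit false
set_option linter.style.haveILetI false

open CategoryTheory CategoryTheory.Limits

namespace Groth.Agent.SerreFF

universe v u v' u' v'' u''

variable {A A' : Type u} [Category.{v} A] [Abelian A] [Category.{v} A'] [Abelian A']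
  (i : A' ⥤ A) [i.Full] [i.Faithful] [PreservesFiniteLimits i] [PreservesFiniteColimits i]
  (J : ObjectProperty A) [J.IsSerreClass] [(J.inverseImage i).IsSerreClass]
  {Q : Type u'} [Category.{v'} Q] (L : A ⥤ Q) [L.IsLocalization J.isoModSerre]
  {Q' : Type u''} [Category.{v''} Q'] (L' : A' ⥤ Q') [L'.IsLocalization (J.inverseImage i).isoModSerre]

lemma preservesZero : i.PreservesZeroMorphisms :=
  Functor.preservesZeroMorphisms_of_preserves_initial_object

include J L L' in
/-- Parallel morphisms equal in the big quotient are equal in the small one. -/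
lemma map_eq_of_map_eq {X Y : A'} (f₁ f₂ : X ⟶ Y) (h : L.map (i.map f₁) = L.map (i.map f₂)) :
    L'.map f₁ = L'.map f₂ := by
  haveI := preservesZero i
  haveI : i.Additive := Functor.additive_of_preserves_binary_products i
  obtain ⟨W, s, hs, hW⟩ := (MorphismProperty.map_eq_iff_precomp L J.isoModSerre _ _).1 h
  have h0 : J (Abelian.image (i.map (f₁ - f₂))) := (ObjectProperty.exists_isoModSerre_comp_eq_zero_iff J _).1
    ⟨W, s, hs, by rw [Functor.map_sub, Preadditive.comp_sub, hW, sub_self]⟩
  have h1 : J (i.obj (Abelian.image (f₁ - f₂))) := J.prop_of_iso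
    (PreservesKernel.iso i (cokernel.π (f₁ - f₂)) ≪≫ kernel.mapIso _ _ (Iso.refl _) (PreservesCokernel.iso i (f₁ - f₂))
      (by simp [PreservesCokernel.π_iso_hom])).symm h0
  obtain ⟨W', t, ht, hW'⟩ := (ObjectProperty.exists_isoModSerre_comp_eq_zero_iff (J.inverseImage i) (f₁ - f₂)).2 h1
  refine (MorphismProperty.map_eq_iff_precomp L' (J.inverseImage i).isoModSerre _ _).2 ⟨W', t, ht, ?_⟩
  rwa [Preadditive.comp_sub, sub_eq_zero] at hW'

include J L L'

/-- The functor induced on quotients is faithful. -/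
theorem faithful (Φ : Q' ⥤ Q) (e : L' ⋙ Φ ≅ i ⋙ L) : Φ.Faithful := by
  let W' := (J.inverseImage i).isoModSerre
  haveI := Localization.essSurj L' W'
  have hobj : ∀ {X Y : A'} (g₁ g₂ : L'.obj X ⟶ L'.obj Y), Φ.map g₁ = Φ.map g₂ → g₁ = g₂ := by
    intro X Y g₁ g₂ hg
    obtain ⟨φ₁, h₁⟩ := Localization.exists_rightFraction L' W' g₁
    obtain ⟨φ₂, h₂⟩ := Localization.exists_rightFraction L' W' (L'.map φ₁.s ≫ g₂)
    haveI := Localization.inverts L' W' _ φ₁.hs
    haveI := Localization.inverts L' W' _ φ₂.hs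
    have e₁ : L'.map φ₁.s ≫ g₁ = L'.map φ₁.f := by rw [h₁, MorphismProperty.RightFraction.map_s_comp_map]
    have e₂ : L'.map φ₂.s ≫ L'.map φ₁.s ≫ g₂ = L'.map φ₂.f := by rw [h₂, MorphismProperty.RightFraction.map_s_comp_map]
    rw [← cancel_epi (L'.map φ₁.s), ← cancel_epi (L'.map φ₂.s), e₁, e₂, ← L'.map_comp]
    refine map_eq_of_map_eq i J L L' _ _ ?_
    have := congrArg (fun g => Φ.map (L'.map φ₂.s) ≫ Φ.map (L'.map φ₁.s) ≫ g) hg
    simp only [← Φ.map_comp, e₁, e₂, ← L'.map_comp] at this
    rw [← cancel_epi (e.hom.app φ₂.X')]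
    exact (e.hom.naturality _).symm.trans ((congrArg (· ≫ e.hom.app Y) this).trans (e.hom.naturality _))
  refine ⟨fun {P R} g₁ g₂ hg => ?_⟩
  rw [← cancel_epi (L'.objObjPreimageIso P).hom, ← cancel_mono (L'.objObjPreimageIso R).inv]
  refine hobj _ _ ?_
  simp only [Φ.map_comp, hg]

/-- The functor induced on quotients is full. -/
theorem full (hsub : ∀ (M : A') (N : A) (f : N ⟶ i.obj M), Mono f → J N → i.essImage N)
    (hquot : ∀ (M : A') (N : A) (p : i.obj M ⟶ N), Epi p → J N → i.essImage N)
    (Φ : Q' ⥤ Q) (e : L' ⋙ Φ ≅ i ⋙ L) : Φ.Full := by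
  haveI := preservesZero i
  let W' := (J.inverseImage i).isoModSerre
  haveI := Localization.essSurj L' W'
  have hobj : ∀ {X Y : A'} (g : Φ.obj (L'.obj X) ⟶ Φ.obj (L'.obj Y)), ∃ g' : L'.obj X ⟶ L'.obj Y, Φ.map g' = g := by
    intro X Y g
    let h : L.obj (i.obj X) ⟶ L.obj (i.obj Y) := e.inv.app X ≫ g ≫ e.hom.app Y
    obtain ⟨φ, hφ⟩ := Localization.exists_rightFraction L J.isoModSerre h
    haveI hLs := Localization.inverts L J.isoModSerre _ φ.hs
    have hh : L.map φ.s ≫ h = L.map φ.f := by rw [hφ, MorphismProperty.RightFraction.map_s_comp_map]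
    -- shrink the source
    obtain ⟨Qc, ⟨α⟩⟩ := hquot X _ (cokernel.π φ.s) inferInstance φ.hs.2
    let c : X ⟶ Qc := i.preimage (cokernel.π φ.s ≫ α.inv)
    haveI : Epi (i.map c) := by rw [Functor.map_preimage]; infer_instance
    haveI : Epi c := i.epi_of_epi_map inferInstance
    let j := kernel.ι c
    have hsc : φ.s ≫ i.map c = 0 := by rw [Functor.map_preimage, cokernel.condition_assoc, zero_comp]
    let S := ShortComplex.mk φ.s (i.map c) hsc
    have hS : S.Exact := S.exact_of_g_is_cokernel (IsColimit.ofIsoColimit (cokernelIsCokernel φ.s)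
      (Cofork.ext α.symm (by simp [S, c])))
    let l : φ.X' ⟶ i.obj (kernel c) := kernel.lift (i.map c) φ.s hsc ≫ (PreservesKernel.iso i c).inv
    haveI : Epi (kernel.lift (i.map c) φ.s hsc) := hS.epi_kernelLift
    haveI : Epi l := epi_comp _ _
    have hl : l ≫ i.map j = φ.s := by simp [l, j]
    have hcj : (J.inverseImage i) (cokernel j) := by
      have hk : IsColimit (CokernelCofork.ofπ c (kernel.condition c)) :=
        Abelian.epiIsCokernelOfKernel _ (limit.isLimit _)
      exact J.prop_of_iso (i.mapIso (IsColimit.coconePointUniqueUpToIso hk (colimit.isColimit _)))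
        (J.prop_of_iso α.symm φ.hs.2)
    have hj : W' j := (J.inverseImage i).isoModSerre_of_mono j hcj
    -- enlarge the target
    have hK : J (Abelian.image (kernel.ι φ.s ≫ φ.f)) :=
      J.prop_of_epi (Abelian.factorThruImage _) φ.hs.1
    obtain ⟨K, ⟨β⟩⟩ := hsub Y _ (Abelian.image.ι (kernel.ι φ.s ≫ φ.f)) inferInstance hK
    let k : K ⟶ Y := i.preimage (β.hom ≫ Abelian.image.ι (kernel.ι φ.s ≫ φ.f))
    haveI : Mono (i.map k) := by rw [Functor.map_preimage]; exact mono_comp _ _
    haveI : Mono k := i.mono_of_mono_map inferInstance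
    let q := cokernel.π k
    have hq : W' q := by
      refine (J.inverseImage i).isoModSerre_of_epi q ?_
      exact (J.inverseImage i).prop_of_iso (IsLimit.conePointUniqueUpToIso
        (Abelian.monoIsKernelOfCokernel _ (colimit.isColimit _)) (limit.isLimit _))
        (show J (i.obj K) from J.prop_of_iso β.symm hK)
    have hkill : kernel.ι l ≫ φ.f ≫ i.map q = 0 := by
      have hks : kernel.ι l ≫ φ.s = 0 :=
        (congrArg (kernel.ι l ≫ ·) hl.symm).trans ((kernel.condition_assoc _ _).trans zero_comp)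
      refine (congrArg (· ≫ φ.f ≫ i.map q) (kernel.lift_ι φ.s _ hks).symm).trans ?_
      rw [Category.assoc, ← Category.assoc (kernel.ι φ.s),
        ← Abelian.image.fac (kernel.ι φ.s ≫ φ.f), Category.assoc]
      have : Abelian.image.ι (kernel.ι φ.s ≫ φ.f) = β.inv ≫ i.map k := by rw [Functor.map_preimage, Iso.inv_hom_id_assoc]
      rw [this, Category.assoc, ← i.map_comp, cokernel.condition, i.map_zero, comp_zero, comp_zero, comp_zero]
    let f' : kernel c ⟶ cokernel k := i.preimage (Abelian.epiDesc l (φ.f ≫ i.map q) hkill)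
    haveI := Localization.inverts L' W' _ hj
    haveI := Localization.inverts L' W' _ hq
    refine ⟨inv (L'.map j) ≫ L'.map f' ≫ inv (L'.map q), ?_⟩
    rw [Φ.map_comp, Φ.map_comp, Φ.map_inv, Φ.map_inv, IsIso.inv_comp_eq, IsIso.comp_inv_eq, Category.assoc]
    have key : L.map (i.map f') = L.map (i.map j) ≫ h ≫ L.map (i.map q) := by
      haveI : IsIso (L.map (i.map j)) := by
        haveI : IsIso (Φ.map (L'.map j)) := inferInstance
        exact (NatIso.isIso_map_iff e j).1 this
      haveI : IsIso (L.map l) := by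
        have : L.map l ≫ L.map (i.map j) = L.map φ.s := by rw [← L.map_comp, hl]
        exact IsIso.of_isIso_fac_right this
      rw [← cancel_epi (L.map l), ← L.map_comp, Functor.map_preimage, Abelian.comp_epiDesc,
        ← Category.assoc (L.map l), ← L.map_comp, hl, ← Category.assoc, hh, ← L.map_comp]
    have hf : Φ.map (L'.map f') = e.hom.app _ ≫ L.map (i.map f') ≫ e.inv.app _ :=
      (NatIso.naturality_2 e f').symm
    have hj' : Φ.map (L'.map j) = e.hom.app _ ≫ L.map (i.map j) ≫ e.inv.app _ :=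
      (NatIso.naturality_2 e j).symm
    have hq' : Φ.map (L'.map q) = e.hom.app _ ≫ L.map (i.map q) ≫ e.inv.app _ :=
      (NatIso.naturality_2 e q).symm
    simp only [hf, key, hj', hq', h, Category.assoc]
  refine ⟨fun {P R} g => ?_⟩
  obtain ⟨g', hg'⟩ := hobj (Φ.map (L'.objObjPreimageIso P).hom ≫ g ≫ Φ.map (L'.objObjPreimageIso R).inv)
  exact ⟨(L'.objObjPreimageIso P).inv ≫ g' ≫ (L'.objObjPreimageIso R).hom, by
    rw [Φ.map_comp, Φ.map_comp, hg']
    simp⟩

end Groth.Agent.SerreFF
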